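import Mathlib
import Cfsg.Agent.Lib.Helper51.Zass.Defs

/-!
# Project ZASS (S0690), package [DKF]: the cut into sub-packages (interface)

`DKF = F + SL + AB + IDX2 + LP + DICK` (assembly: `Cfsg.Agent.Lib.Helper56.Zass.pkgDKF_of` in
`DKFAsm.lean`).
-/

set_option autoImplicit false

namespace Cfsg.Agent.Lib.Helper56.Zass

open Cfsg.Agent.Lib.Helper51.Zass

universe u v

/-- the abstract facts about the group `H` used after the matrices are gone. -/
structure Facts (p : ℕ) (H : Type u) [Group H] : Prop where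
  uniq : ∀ s t : H, orderOf s = 2 → orderOf t = 2 → s = t
  comm3 : ∀ a b : H, orderOf a = 3 → orderOf b = 3 → a * b = b * a → b = a ∨ b = a⁻¹
  pprime : ¬ p ∣ Nat.card H
  gen : Subgroup.closure {h : H | orderOf h = 3} = ⊤

/-- [DKF-F] the facts (i), (ii), (iii) of the paper proof and the generation by elements of
order 3 inside `H`. -/
def PkgDkfF : Prop :=
  ∀ (p : ℕ) [Fact p.Prime] (E : Type u) [Field E] [Finite E] [CharP E p]
    (G : Type u) [Group G] [Finite G] (H : Subgroup G)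
    (φ : H →* Matrix.GeneralLinearGroup (Fin 2) E),
    (∀ g : H, g ≠ 1 → IsUnit ((φ g : Matrix (Fin 2) (Fin 2) E) - 1)) →
    Subgroup.closure {g : G | g ∈ H ∧ orderOf g = 3} = H →
    Facts p H

/-- [DKF-SL] reduction to `PSL₂(E)`: either `H` has order 1 or 3, or there is a homomorphism
to `PSL₂(E)` whose kernel consists of elements of square 1 (fact (iv): a non-scalar matrix
with `M² + M + 1 = 0` has determinant 1). -/
def PkgDkfSL : Prop :=
  ∀ (p : ℕ) [Fact p.Prime] (E : Type u) [Field E] [Finite E] [CharP E p]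
    (G : Type u) [Group G] [Finite G] (H : Subgroup G)
    (φ : H →* Matrix.GeneralLinearGroup (Fin 2) E),
    (∀ g : H, g ≠ 1 → IsUnit ((φ g : Matrix (Fin 2) (Fin 2) E) - 1)) →
    Facts p H →
    Nat.card H = 1 ∨ Nat.card H = 3 ∨
      ∃ ψ : H →* Matrix.ProjectiveSpecialLinearGroup (Fin 2) E, ∀ g ∈ ψ.ker, g * g = 1

/-- [DKF-AB] abelian image: `H` has order 1 or 3. -/
def PkgDkfAB : Prop :=
  ∀ (p : ℕ) (H : Type u) [Group H] [Finite H] (Q : Type v) [Group Q] (ψ : H →* Q),
    Facts p H → (∀ g ∈ ψ.ker, g * g = 1) → (∀ x y : H, ψ x * ψ y = ψ y * ψ x) →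
    Nat.card H = 1 ∨ Nat.card H = 3

/-- [DKF-IDX2] a group generated by elements of order 3 has no quotient with a subgroup of
index 2. -/
def PkgDkfIdx2 : Prop :=
  ∀ (H : Type u) [Group H] [Finite H] (Q : Type v) [Group Q] (ψ : H →* Q),
    Subgroup.closure {h : H | orderOf h = 3} = ⊤ → Function.Surjective ψ →
    ∀ N : Subgroup Q, N.index = 2 → False

/-- [DKF-LP] the kernel of a surjection onto `A₄` or `A₅` has order exactly 2. -/
def PkgDkfLP : Prop :=
  ∀ (H : Type u) [Group H] [Finite H] (n : ℕ), (n = 4 ∨ n = 5) →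
    ∀ f : H →* alternatingGroup (Fin n), Function.Surjective f →
    (∀ s t : H, orderOf s = 2 → orderOf t = 2 → s = t) → (∀ g ∈ f.ker, g * g = 1) →
    Nat.card f.ker = 2

/-- [DKF-DICK] Dickson's list for a `p'`-subgroup of `PSL₂(E)`. -/
def PkgDkfDick : Prop :=
  ∀ (p : ℕ) [Fact p.Prime] (E : Type u) [Field E] [Finite E] [CharP E p]
    (K : Subgroup (Matrix.ProjectiveSpecialLinearGroup (Fin 2) E)),
    ¬ p ∣ Nat.card K →
    (∀ x y : K, x * y = y * x) ∨ (∃ N : Subgroup K, N.index = 2) ∨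
      Nonempty (K ≃* alternatingGroup (Fin 4)) ∨ Nonempty (K ≃* alternatingGroup (Fin 5))

end Cfsg.Agent.Lib.Helper56.Zass
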