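import Mathlib
import Cfsg.Agent.Lib.Helper51.Zass.Defs
import Cfsg.Agent.Lib.Helper56.Zass.DKFDefs

/-!
# Project ZASS (S0690), package [DKF]: assembly from the sub-packages
-/

set_option autoImplicit false

namespace Cfsg.Agent.Lib.Helper56.Zass

open Cfsg.Agent.Lib.Helper51.Zass

universe u

theorem pkgDKF_of (hF : PkgDkfF.{u}) (hSL : PkgDkfSL.{u}) (hAB : PkgDkfAB.{u, u})
    (hI : PkgDkfIdx2.{u, u}) (hLP : PkgDkfLP.{u}) (hD : PkgDkfDick.{u}) : PkgDKF.{u} := by
  intro p _ E _ _ _ G _ _ H φ hunit hgen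
  have hFacts : Facts p H := hF p E G H φ hunit hgen
  rcases hSL p E G H φ hunit hFacts with h1 | h3 | ⟨ψ, hker⟩
  · exact Or.inl h1
  · exact Or.inr (Or.inl h3)
  -- the image in `PSL₂(E)`
  have hsurj : Function.Surjective ψ.rangeRestrict := ψ.rangeRestrict_surjective
  have hker' : ∀ g ∈ ψ.rangeRestrict.ker, g * g = 1 := by
    intro g hg
    rw [MonoidHom.ker_rangeRestrict] at hg
    exact hker g hg
  have hp : ¬ p ∣ Nat.card ψ.range := fun h =>
    hFacts.pprime (dvd_trans h (Subgroup.card_range_dvd ψ))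
  rcases hD p E ψ.range hp with hab | ⟨N, hN⟩ | ⟨⟨e⟩⟩ | ⟨⟨e⟩⟩
  · rcases hAB p H ψ.range ψ.rangeRestrict hFacts hker'
      (fun x y => hab _ _) with h | h
    · exact Or.inl h
    · exact Or.inr (Or.inl h)
  · exact (hI H ψ.range ψ.rangeRestrict hFacts.gen hsurj N hN).elim
  · refine Or.inr (Or.inr (Or.inl ⟨e.toMonoidHom.comp ψ.rangeRestrict, ?_, ?_⟩))
    · exact e.surjective.comp hsurj
    · refine hLP H 4 (Or.inl rfl) _ (e.surjective.comp hsurj) hFacts.uniq ?_
      intro g hg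
      apply hker'
      rw [MonoidHom.mem_ker] at hg ⊢
      exact e.injective (by rw [map_one]; exact hg)
  · refine Or.inr (Or.inr (Or.inr ⟨e.toMonoidHom.comp ψ.rangeRestrict, ?_, ?_⟩))
    · exact e.surjective.comp hsurj
    · refine hLP H 5 (Or.inr rfl) _ (e.surjective.comp hsurj) hFacts.uniq ?_
      intro g hg
      apply hker'
      rw [MonoidHom.mem_ker] at hg ⊢
      exact e.injective (by rw [map_one]; exact hg)

end Cfsg.Agent.Lib.Helper56.Zass
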