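import Mathlib
import Cfsg.Agent.Lib.Helper56.Zass.DKFDefs

/-!
# Project ZASS (S0690), sub-package [DKF-AB]: abelian image
-/

set_option autoImplicit false

namespace Cfsg.Agent.Lib.Helper56.Zass

universe u v

theorem pkgDkfAB : PkgDkfAB.{u, v} := by
  intro p H _ _ Q _ ψ hF hker hab
  -- elements of order 3 commute
  have hcomm : ∀ a b : H, orderOf a = 3 → orderOf b = 3 → a * b = b * a := by
    intro a b ha hb
    by_contra hne
    have hc1 : a * b * a⁻¹ * b⁻¹ ≠ 1 := by
      intro h
      apply hne
      have : a * b = (a * b * a⁻¹ * b⁻¹) * (b * a) := by group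
      rw [this, h, one_mul]
    have hcker : a * b * a⁻¹ * b⁻¹ ∈ ψ.ker := by
      rw [MonoidHom.mem_ker, map_mul, map_mul, map_mul, map_inv, map_inv, hab a b]
      group
    have hcc : (a * b * a⁻¹ * b⁻¹) * (a * b * a⁻¹ * b⁻¹) = 1 := hker _ hcker
    set c := a * b * a⁻¹ * b⁻¹ with hc
    have hc2 : orderOf c = 2 := orderOf_eq_prime (by rw [pow_two]; exact hcc) hc1
    -- c is central
    have hcen : ∀ g : H, g * c = c * g := by
      intro g
      have h1 : (g * c * g⁻¹) * (g * c * g⁻¹) = 1 := by
        have : (g * c * g⁻¹) * (g * c * g⁻¹) = g * (c * c) * g⁻¹ := by group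
        rw [this, hcc]; group
      have h2 : g * c * g⁻¹ ≠ 1 := by
        intro h
        apply hc1
        have : c = g⁻¹ * (g * c * g⁻¹) * g := by group
        rw [this, h]; group
      have h3 : orderOf (g * c * g⁻¹) = 2 := orderOf_eq_prime (by rw [pow_two]; exact h1) h2
      have h4 := hF.uniq _ _ h3 hc2
      have : g * c = (g * c * g⁻¹) * g := by group
      rw [this, h4]
    have h5 : a * b * a⁻¹ = c * b := by rw [hc]; group
    have hb3 : b ^ 3 = 1 := by rw [← hb]; exact pow_orderOf_eq_one b
    have h6 : (a * b * a⁻¹) ^ 3 = 1 := by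
      rw [conj_pow, hb3]; group
    have h7 : (c * b) ^ 3 = c := by
      have hcb : Commute c b := (hcen b).symm
      rw [hcb.mul_pow, hb3, mul_one]
      have : c ^ 3 = c * c * c := by rw [pow_succ, pow_two]
      rw [this, hcc, one_mul]
    rw [h5, h7] at h6
    exact hc1 h6
  by_cases hex : ∃ a : H, orderOf a = 3
  · obtain ⟨a, ha⟩ := hex
    right
    have hle : Subgroup.closure {h : H | orderOf h = 3} ≤ Subgroup.zpowers a := by
      rw [Subgroup.closure_le]
      intro b hb
      rcases hF.comm3 a b ha hb (hcomm a b ha hb) with h | h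
      · rw [h]; exact Subgroup.mem_zpowers a
      · rw [h]; exact inv_mem (Subgroup.mem_zpowers a)
    rw [hF.gen] at hle
    have htop : Subgroup.zpowers a = ⊤ := top_le_iff.mp hle
    rw [← Subgroup.card_top (G := H), ← htop, Nat.card_zpowers, ha]
  · left
    have hemp : {h : H | orderOf h = 3} = ∅ := by
      ext h
      simp only [Set.mem_ofPred_eq, Set.mem_empty_iff_false, iff_false]
      exact fun hh => hex ⟨h, hh⟩
    have hbot : (⊤ : Subgroup H) = ⊥ := by
      rw [← hF.gen, hemp, Subgroup.closure_empty]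
    rw [← Subgroup.card_top (G := H), hbot, Subgroup.card_bot]

end Cfsg.Agent.Lib.Helper56.Zass
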